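import Groth.Prelude.Def_Hyper
import Groth.Prelude.Def_Hyper2
import Mathlib.AlgebraicTopology.SimplicialObject.ChainHomotopy
import Mathlib.Algebra.Homology.Opposite

/-! # Homotopic maps of semi-representable objects induce the same map on Čech cohomology -/

universe u v w

open CategoryTheory Opposite CategoryTheory.Limits AlgebraicTopology

namespace GrothLib.HyperHomotopy

variable {D : Type u} [Category.{v} D] {A : Type w} [Category.{v} A] [Abelian A]

/-- the cosimplicial object obtained from a contravariant functor -/
abbrev cosimp (G : Dᵒᵖ ⥤ A) (K : SimplicialObject D) : CosimplicialObject A := K.rightOp ⋙ G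

theorem d_eq (G : Dᵒᵖ ⥤ A) (K : SimplicialObject D) (i j : ℕ) :
    ((alternatingCofaceMapComplex A).obj (cosimp G K)).d i j =
      (((alternatingFaceMapComplex Aᵒᵖ).obj (((SimplicialObject.whiskering D Aᵒᵖ).obj G.rightOp).obj K)).d j i).unop := by
  by_cases h : i + 1 = j
  · subst h
    have h1 : ((alternatingCofaceMapComplex A).obj (cosimp G K)).d i (i + 1) =
        AlternatingCofaceMapComplex.objD (cosimp G K) i := by
      change (AlternatingCofaceMapComplex.obj (cosimp G K)).d i (i + 1) = _
      simp [AlternatingCofaceMapComplex.obj]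
    rw [h1, alternatingFaceMapComplex_obj_d]
    simp only [AlternatingCofaceMapComplex.objD, AlternatingFaceMapComplex.objD, unop_sum, unop_zsmul]
    rfl
  · rw [HomologicalComplex.shape _ _ _ (by simpa using h),
      HomologicalComplex.shape _ _ _ (by simpa using h), unop_zero]
    rfl

/-- a simplicial homotopy induces a cochain homotopy -/
noncomputable def cochainHomotopy (G : Dᵒᵖ ⥤ A) {K L : SimplicialObject D} {a b : L ⟶ K}
    (H : SimplicialObject.Homotopy a b) :
    _root_.Homotopy ((alternatingCofaceMapComplex A).map (Functor.whiskerRight (NatTrans.rightOp a) G))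
      ((alternatingCofaceMapComplex A).map (Functor.whiskerRight (NatTrans.rightOp b) G)) :=
  let hc := (H.whiskerRight G.rightOp).toChainHomotopy
  { hom := fun i j => (hc.hom j i).unop
    zero := fun i j hij => (congrArg Quiver.Hom.unop (hc.zero j i hij)).trans rfl
    comm := fun n => by
      have h := congrArg Quiver.Hom.unop (hc.comm n)
      cases n with
      | zero =>
        rw [dNext_eq _ (i' := 1) (by simp), prevD_nat, d_eq]
        simp only [_root_.Homotopy.dNext_zero_chainComplex, Homotopy.prevD_chainComplex, unop_add, unop_comp, zero_add, unop_zero] at h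
        refine h.trans ?_
        refine congrArg₂ (· + ·) ?_ rfl
        rw [HomologicalComplex.shape ((alternatingCofaceMapComplex A).obj (cosimp G L)) (0 - 1) 0 (by simp),
          comp_zero, add_zero]
        rfl
      | succ m =>
        rw [dNext_eq _ (i' := m + 2) (by simp), prevD_nat, d_eq, d_eq]
        simp only [_root_.Homotopy.dNext_succ_chainComplex, Homotopy.prevD_chainComplex, unop_add, unop_comp] at h
        refine h.trans ?_
        exact congrArg₂ (· + ·) (add_comm _ _) rfl }

theorem cechHMap_eq {C : Type u} [SmallCategory C] (X : C)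
    {K L : SimplicialObject (FormalCoproduct.{u} (Over X))} (a b : L ⟶ K)
    (h : Nonempty (SimplicialObject.Homotopy a b)) (P : Cᵒᵖ ⥤ AddCommGrpCat.{u}) (p : ℕ) :
    Hyper.cechHMap X a P p = Hyper.cechHMap X b P p := by
  obtain ⟨H⟩ := h
  exact congrArg (fun f => AddCommGrpCat.Hom.hom f)
    ((cochainHomotopy ((FormalCoproduct.evalOp.{u} (Over X) AddCommGrpCat.{u}).obj
      ((Over.forget X).op ⋙ P)) H).homologyMap_eq p)

end GrothLib.HyperHomotopy
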